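import Cfsg.Agent.Lib.SpFourCover.Two

/-!
Block decomposition in `Sp₄` along the Siegel parabolic subgroup, and conjugates of a semisimple
element of the Levi subgroup.
-/

set_option autoImplicit false

namespace CfsgLib.SpFourCover

open Matrix

variable {F : Type*} [Field F]

local notation "M2" => Matrix (Fin 2) (Fin 2) F
local notation "M4" => Matrix (Fin 2 ⊕ Fin 2) (Fin 2 ⊕ Fin 2) F
local notation "SP" => Matrix.symplecticGroup (Fin 2) F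

/-- Levi element -/
noncomputable def dg (A : Matrix (Fin 2) (Fin 2) F) : Matrix (Fin 2 ⊕ Fin 2) (Fin 2 ⊕ Fin 2) F :=
  fromBlocks A 0 0 (A⁻¹)ᵀ

/-- lower unipotent element -/
def low (S : Matrix (Fin 2) (Fin 2) F) : Matrix (Fin 2 ⊕ Fin 2) (Fin 2 ⊕ Fin 2) F :=
  fromBlocks 1 0 S 1

/-- upper unipotent element -/
def up (S : Matrix (Fin 2) (Fin 2) F) : Matrix (Fin 2 ⊕ Fin 2) (Fin 2 ⊕ Fin 2) F :=
  fromBlocks 1 S 0 1

theorem dg_mem {A : M2} (hA : A.det ≠ 0) : dg A ∈ SP := by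
  refine SymplecticGroup.fromBlocks_mem_iff.2 ⟨by simp, by simp, ?_⟩
  rw [← transpose_mul, nonsing_inv_mul A (isUnit_of_ne hA)]
  simp

theorem low_mem {S : M2} (hS : Sᵀ = S) : low S ∈ SP :=
  SymplecticGroup.fromBlocks_mem_iff.2 ⟨by simp [hS], by simp, by simp⟩

theorem up_mem {S : M2} (hS : Sᵀ = S) : up S ∈ SP :=
  SymplecticGroup.fromBlocks_mem_iff.2 ⟨by simp, by simp [hS], by simp⟩

theorem dg_mul (A B : M2) : dg A * dg B = dg (A * B) := by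
  simp [dg, fromBlocks_multiply, Matrix.mul_inv_rev]

/-- conjugate under the symplectic group -/
def Cj (X Y : Matrix (Fin 2 ⊕ Fin 2) (Fin 2 ⊕ Fin 2) F) : Prop :=
  ∃ h, h ∈ Matrix.symplecticGroup (Fin 2) F ∧ h * X = Y * h

theorem Cj.refl (X : M4) : Cj X X := ⟨1, one_mem _, by simp⟩

theorem Cj.trans {X Y Z : M4} (h : Cj X Y) (h' : Cj Y Z) : Cj X Z := by
  obtain ⟨a, ha, h⟩ := h
  obtain ⟨b, hb, h'⟩ := h'
  refine ⟨b * a, mul_mem hb ha, ?_⟩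
  rw [Matrix.mul_assoc, h, ← Matrix.mul_assoc, h', Matrix.mul_assoc]

theorem Cj.of_eq {h X Y : M4} (hh : h ∈ SP) (he : Y = h * X * h⁻¹) : Cj X Y :=
  ⟨h, hh, by rw [he, Matrix.mul_assoc, nonsing_inv_mul h (SymplecticGroup.symplectic_det hh),
    Matrix.mul_one]⟩

theorem Cj.symm {X Y : M4} (h : Cj X Y) : Cj Y X := by
  obtain ⟨a, ha, h⟩ := h
  have hu := SymplecticGroup.symplectic_det ha
  refine ⟨a⁻¹, ?_, ?_⟩
  · rw [← SymplecticGroup.coe_inv' ⟨a, ha⟩]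
    exact SetLike.coe_mem _
  · calc a⁻¹ * Y = a⁻¹ * (Y * a) * a⁻¹ := by
          rw [Matrix.mul_assoc, Matrix.mul_assoc Y, mul_nonsing_inv a hu, Matrix.mul_one]
      _ = X * a⁻¹ := by rw [← h, ← Matrix.mul_assoc a⁻¹, nonsing_inv_mul a hu, Matrix.one_mul]

theorem Cj.mem {X Y : M4} (h : Cj X Y) (hX : X ∈ SP) : Y ∈ SP := by
  obtain ⟨a, ha, h⟩ := h
  have hu := SymplecticGroup.symplectic_det ha
  have hY : Y = a * X * a⁻¹ := by rw [h, Matrix.mul_assoc, mul_nonsing_inv a hu, Matrix.mul_one]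
  rw [hY]
  refine mul_mem (mul_mem ha hX) ?_
  rw [← SymplecticGroup.coe_inv' ⟨a, ha⟩]
  exact SetLike.coe_mem _

theorem cj_dg_sim {A B : M2} (h : Sim A B) : Cj (dg B) (dg A) := by
  obtain ⟨R, hR, h⟩ := h
  exact ⟨dg R, dg_mem hR, by rw [dg_mul, dg_mul, h]⟩

theorem J_mul_dg {A : M2} (hA : A.det ≠ 0) :
    J (Fin 2) F * dg A = dg (A⁻¹)ᵀ * J (Fin 2) F := by
  have h : (((A⁻¹)ᵀ)⁻¹)ᵀ = A := by
    rw [← transpose_nonsing_inv, transpose_transpose, nonsing_inv_nonsing_inv A (isUnit_of_ne hA)]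
  simp [dg, J, fromBlocks_multiply, h]

theorem J_mul_low (S : M2) : J (Fin 2) F * low S = up (-S) * J (Fin 2) F := by
  simp [low, up, J, fromBlocks_multiply]

theorem det_ne_of_sim {A B : M2} (h : Sim A B) (hB : B.det ≠ 0) : A.det ≠ 0 := by
  obtain ⟨R, hR, h⟩ := h
  have h1 := congrArg Matrix.det h
  rw [det_mul, det_mul, mul_comm R.det] at h1
  rw [mul_right_cancel₀ hR h1]
  exact hB

/-- `low C * dg A` is conjugate to `dg A` -/
theorem cj_low [Finite F] {A C : M2} (hA : A.det ≠ 0) (hG : Good A) (hC : Cᵀ = C) :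
    Cj (dg A) (low C * dg A) := by
  have hu := isUnit_of_ne hA
  have hu' : IsUnit (Aᵀ).det := by rwa [det_transpose]
  let f : {S : M2 // Sᵀ = S} → {S : M2 // Sᵀ = S} := fun S =>
    ⟨S.1 - (A⁻¹)ᵀ * S.1 * A⁻¹, by
      simp [Matrix.transpose_mul, transpose_nonsing_inv, S.2, Matrix.mul_assoc]⟩
  have hf : Function.Injective f := by
    intro S T h
    have h1 : S.1 - (A⁻¹)ᵀ * S.1 * A⁻¹ = T.1 - (A⁻¹)ᵀ * T.1 * A⁻¹ := congrArg Subtype.val h
    set D := S.1 - T.1 with hD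
    have h2 : D = (A⁻¹)ᵀ * D * A⁻¹ := by
      rw [hD, Matrix.mul_sub, Matrix.sub_mul]
      exact sub_eq_sub_iff_sub_eq_sub.1 h1
    have h3 : Aᵀ * D * A = D := by
      conv_lhs => rw [h2]
      rw [transpose_nonsing_inv]
      simp [Matrix.mul_assoc, nonsing_inv_mul A hu, mul_nonsing_inv_cancel_left _ _ hu']
    exact Subtype.ext (sub_eq_zero.1 (hG D (by simp [hD, S.2, T.2]) h3))
  obtain ⟨⟨S, hS⟩, hSf⟩ := Finite.injective_iff_surjective.1 hf ⟨C, hC⟩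
  have hSC : C = S - (A⁻¹)ᵀ * S * A⁻¹ := (congrArg Subtype.val hSf).symm
  refine ⟨low S, low_mem hS, ?_⟩
  simp [low, dg, fromBlocks_multiply]
  rw [hSC, Matrix.sub_mul, Matrix.mul_assoc ((A⁻¹)ᵀ * S), nonsing_inv_mul A hu, Matrix.mul_one,
    sub_add_cancel]

variable (P : Par F)

theorem Par.sim_transpose : Sim ((P.A⁻¹)ᵀ) P.A⁻¹ := by
  refine sim_of_eq ?_ P.ns_inv (det_transpose _) (trace_transpose _)
  exact Or.inr (Or.inl (by rw [P.inv_A]; simp))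

theorem Par.cj_inv : Cj (dg P.A) (dg P.A⁻¹) :=
  Cj.trans ⟨J (Fin 2) F, SymplecticGroup.J_mem _ _, J_mul_dg P.det_A_ne⟩
    (cj_dg_sim P.sim_transpose.symm)

theorem good_inv {A : M2} (hA : A.det ≠ 0) (h : Good A) : Good A⁻¹ := by
  have hu := isUnit_of_ne hA
  have hu' : IsUnit (Aᵀ).det := by rwa [det_transpose]
  intro S hS hfix
  refine h S hS ?_
  conv_lhs => rw [← hfix]
  rw [transpose_nonsing_inv]
  simp [Matrix.mul_assoc, nonsing_inv_mul A hu, mul_nonsing_inv_cancel_left _ _ hu']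

/-- the two kinds of Levi factors -/
theorem Par.factor {A : M2} (h : Sim A P.A ∨ Sim A P.A⁻¹) :
    A.det ≠ 0 ∧ Good A ∧ Cj (dg P.A) (dg A) := by
  rcases h with h | h
  · exact ⟨det_ne_of_sim h P.det_A_ne, P.good.sim h.symm, cj_dg_sim h⟩
  · refine ⟨det_ne_of_sim h ?_, (good_inv P.det_A_ne P.good).sim h.symm,
      P.cj_inv.trans (cj_dg_sim h)⟩
    rw [P.det_inv]
    exact one_div_ne_zero P.d0

theorem Par.good_transpose_inv {A : M2} (h : Sim A P.A ∨ Sim A P.A⁻¹) : Good (A⁻¹)ᵀ := by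
  have hsimT : ∀ {X Y : M2}, Sim X Y → X.det ≠ 0 → Y.det ≠ 0 → Sim (X⁻¹)ᵀ (Y⁻¹)ᵀ := by
    intro X Y ⟨R, hR, hRXY⟩ hX hY
    have huX := isUnit_of_ne hX
    have huY := isUnit_of_ne hY
    have hRR : IsUnit R.det := isUnit_of_ne hR
    refine ⟨(R⁻¹)ᵀ, ?_, ?_⟩
    · rw [det_transpose, det_nonsing_inv, Ring.inverse_eq_inv']
      exact inv_ne_zero hR
    · rw [← transpose_mul, ← transpose_mul, ← Matrix.mul_inv_rev, ← Matrix.mul_inv_rev, hRXY]
  have hT : Sim ((P.A⁻¹)⁻¹)ᵀ P.A := by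
    rw [nonsing_inv_nonsing_inv _ (isUnit_of_ne P.det_A_ne)]
    exact sim_of_eq (Or.inl (by simp [Par.A, comp])) P.ns_A (det_transpose _) (trace_transpose _)
  rcases h with h | h
  · exact (good_inv P.det_A_ne P.good).sim
      ((hsimT h (det_ne_of_sim h P.det_A_ne) P.det_A_ne).trans P.sim_transpose).symm
  · have hi : P.A⁻¹.det ≠ 0 := by rw [P.det_inv]; exact one_div_ne_zero P.d0
    exact P.good.sim ((hsimT h (det_ne_of_sim h hi) hi).trans hT).symm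

theorem cj_up [Finite F] {A T : M2} (hA : A.det ≠ 0) (hG : Good (A⁻¹)ᵀ) (hT : Tᵀ = T) :
    Cj (dg A) (dg A * up T) := by
  set B := (A⁻¹)ᵀ with hB
  have hu := isUnit_of_ne hA
  have hBd : B.det ≠ 0 := by
    rw [hB, det_transpose, det_nonsing_inv, Ring.inverse_eq_inv']; exact inv_ne_zero hA
  set U : M2 := A * T * Aᵀ with hU
  have hUs : Uᵀ = U := by simp [hU, Matrix.transpose_mul, hT, Matrix.mul_assoc]
  have h1 : up U * dg A = dg A * up T := by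
    simp [up, dg, fromBlocks_multiply, hU, Matrix.mul_assoc]
    rw [← transpose_mul, nonsing_inv_mul A hu, transpose_one, Matrix.mul_one]
  rw [← h1]
  have hJ : J (Fin 2) F ∈ SP := SymplecticGroup.J_mem _ _
  refine Cj.trans ⟨J (Fin 2) F, hJ, J_mul_dg hA⟩ (Cj.trans (cj_low (C := -U) hBd hG (by simp [hUs]))
    ⟨J (Fin 2) F, hJ, ?_⟩)
  rw [← Matrix.mul_assoc, J_mul_low, neg_neg, Matrix.mul_assoc, J_mul_dg hBd, hB,
    ← transpose_nonsing_inv, transpose_transpose, nonsing_inv_nonsing_inv A hu, ← Matrix.mul_assoc]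

theorem exists_decomp {g : M4} (hg : g ∈ SP) (hM : (g.toBlocks₁₁).det ≠ 0) :
    ∃ C T : M2, Cᵀ = C ∧ Tᵀ = T ∧ g = low C * dg g.toBlocks₁₁ * up T := by
  have hg' := SymplecticGroup.transpose_mem hg
  obtain ⟨M, N, Q, D, rfl⟩ : ∃ M N Q D : M2, g = fromBlocks M N Q D :=
    ⟨_, _, _, _, (fromBlocks_toBlocks g).symm⟩
  simp only [toBlocks_fromBlocks₁₁] at hM ⊢
  obtain ⟨h1, -, h3⟩ := SymplecticGroup.fromBlocks_mem_iff.1 hg
  rw [fromBlocks_transpose] at hg'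
  obtain ⟨h2, -, -⟩ := SymplecticGroup.fromBlocks_mem_iff.1 hg'
  simp only [transpose_transpose] at h2
  have hu := isUnit_of_ne hM
  have hu' : IsUnit (Mᵀ).det := by rwa [det_transpose]
  refine ⟨Q * M⁻¹, M⁻¹ * N, ?_, ?_, ?_⟩
  · rw [transpose_mul]
    calc (M⁻¹)ᵀ * Qᵀ = (M⁻¹)ᵀ * (Qᵀ * M) * M⁻¹ := by
          simp [Matrix.mul_assoc, mul_nonsing_inv M hu]
      _ = Q * M⁻¹ := by
          rw [← h1, transpose_nonsing_inv, ← Matrix.mul_assoc, nonsing_inv_mul _ hu',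
            Matrix.one_mul]
  · rw [transpose_mul]
    calc Nᵀ * (M⁻¹)ᵀ = M⁻¹ * (M * Nᵀ) * (M⁻¹)ᵀ := by
          simp [← Matrix.mul_assoc, nonsing_inv_mul M hu]
      _ = M⁻¹ * N := by
          rw [h2, transpose_nonsing_inv, Matrix.mul_assoc, Matrix.mul_assoc N,
            mul_nonsing_inv _ hu', Matrix.mul_one]
  · have hQ : (M⁻¹)ᵀ * Qᵀ = Q * M⁻¹ := by
      calc (M⁻¹)ᵀ * Qᵀ = (M⁻¹)ᵀ * (Qᵀ * M) * M⁻¹ := by
            simp [Matrix.mul_assoc, mul_nonsing_inv M hu]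
        _ = Q * M⁻¹ := by
            rw [← h1, transpose_nonsing_inv, ← Matrix.mul_assoc, nonsing_inv_mul _ hu',
              Matrix.one_mul]
    have hD : D = Q * (M⁻¹ * N) + (M⁻¹)ᵀ := by
      calc D = (M⁻¹)ᵀ * (Mᵀ * D) := by
            rw [transpose_nonsing_inv, nonsing_inv_mul_cancel_left _ _ hu']
        _ = (M⁻¹)ᵀ * (1 + Qᵀ * N) := by rw [← h3, sub_add_cancel]
        _ = Q * (M⁻¹ * N) + (M⁻¹)ᵀ := by
            rw [Matrix.mul_add, Matrix.mul_one, ← Matrix.mul_assoc, hQ, Matrix.mul_assoc, add_comm]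
    simp [low, up, dg, fromBlocks_multiply, Matrix.mul_assoc, nonsing_inv_mul M hu,
      mul_nonsing_inv_cancel_left _ _ hu]
    exact hD

theorem Par.product [Finite F] {g : M4} (hg : g ∈ SP) (h : P.Covered g.toBlocks₁₁) :
    ∃ X Y, Cj (dg P.A) X ∧ Cj (dg P.A) Y ∧ g = X * Y := by
  obtain ⟨A₁, A₂, hM, h₁, h₂⟩ := h
  obtain ⟨d₁, g₁, c₁⟩ := P.factor (Or.inl h₁)
  obtain ⟨d₂, -, c₂⟩ := P.factor h₂
  have hdet : g.toBlocks₁₁.det ≠ 0 := by rw [hM, det_mul]; exact mul_ne_zero d₁ d₂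
  obtain ⟨C, T, hC, hT, hgd⟩ := exists_decomp hg hdet
  refine ⟨low C * dg A₁, dg A₂ * up T, c₁.trans (cj_low d₁ g₁ hC),
    c₂.trans (cj_up d₂ (P.good_transpose_inv h₂) hT), ?_⟩
  rw [hgd, hM, ← dg_mul]
  simp only [Matrix.mul_assoc]

end CfsgLib.SpFourCover
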