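import Cfsg.Agent.Lib.SpFourCover.Blocks

/-!
Every non-central element of `Sp₄` has, up to sign, a conjugate whose upper left block is a product of
two conjugates of the irreducible block.
-/

set_option autoImplicit false

namespace CfsgLib.SpFourCover

open Matrix

variable {F : Type*} [Field F]

local notation "M2" => Matrix (Fin 2) (Fin 2) F
local notation "M4" => Matrix (Fin 2 ⊕ Fin 2) (Fin 2 ⊕ Fin 2) F
local notation "SP" => Matrix.symplecticGroup (Fin 2) F

theorem cj_low_block {g : M4} {S : M2} (hS : Sᵀ = S) :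
    Cj g (low S * g * low (-S)) := by
  refine ⟨low S, low_mem hS, ?_⟩
  rw [Matrix.mul_assoc (low S * g)]
  simp [low, fromBlocks_multiply]

theorem cj_up_block {g : M4} {S : M2} (hS : Sᵀ = S) :
    Cj g (up S * g * up (-S)) := by
  refine ⟨up S, up_mem hS, ?_⟩
  rw [Matrix.mul_assoc (up S * g)]
  simp [up, fromBlocks_multiply]

theorem up_block (M N Q D S : M2) :
    up S * fromBlocks M N Q D * up (-S) =
      fromBlocks (M + S * Q) (-((M + S * Q) * S) + (N + S * D)) Q (-(Q * S) + D) := by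
  simp [up, fromBlocks_multiply]

theorem low_block (M N Q D S : M2) :
    low S * fromBlocks M N Q D * low (-S) =
      fromBlocks (M + -(N * S)) N (S * M + Q + -((S * N + D) * S)) (S * N + D) := by
  simp [low, fromBlocks_multiply]

theorem exists_corner {g : M4} (hg : g ∈ SP) (h1 : g ≠ 1) (hn : g ≠ -1) :
    ∃ g', Cj g g' ∧ g'.toBlocks₂₁ ≠ 0 := by
  by_contra hne
  simp only [not_exists, not_and, not_not] at hne
  obtain ⟨M, N, Q, D, rfl⟩ : ∃ M N Q D : M2, g = fromBlocks M N Q D :=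
    ⟨_, _, _, _, (fromBlocks_toBlocks g).symm⟩
  have hQ : Q = 0 := by simpa using hne _ (Cj.refl _)
  have hN : N = 0 := by
    have hJ : Cj (fromBlocks M N Q D) (fromBlocks D (-Q) (-N) M) :=
      ⟨J (Fin 2) F, SymplecticGroup.J_mem _ _, by simp [J, fromBlocks_multiply]⟩
    simpa using hne _ hJ
  subst hQ hN
  have hS : ∀ S : M2, Sᵀ = S → S * M = D * S := by
    intro S hS
    have h := hne _ (cj_low_block (g := fromBlocks M 0 0 D) hS)
    rw [low_block, toBlocks_fromBlocks₂₁] at h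
    simp only [Matrix.mul_zero, zero_add, add_zero] at h
    exact add_neg_eq_zero.1 h
  have hMD : M = D := by simpa using hS 1 transpose_one
  subst hMD
  have e1 := hS !![1, 0; 0, 0] (by ext i j; fin_cases i <;> fin_cases j <;> rfl)
  have e2 := hS !![0, 1; 1, 0] (by ext i j; fin_cases i <;> fin_cases j <;> rfl)
  have a := congrFun (congrFun e1 0) 1
  have b := congrFun (congrFun e1 1) 0
  have c := congrFun (congrFun e2 0) 1
  simp [Matrix.mul_apply, Fin.sum_univ_two] at a b c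
  replace b := b.symm
  have hM : M = M 0 0 • (1 : M2) := by
    ext i j; fin_cases i <;> fin_cases j <;> simp [a, b, c]
  obtain ⟨-, -, hMM⟩ := SymplecticGroup.fromBlocks_mem_iff.1 hg
  have hsq : M 0 0 * M 0 0 = 1 := by
    have := congrFun (congrFun hMM 0) 0
    simpa [Matrix.mul_apply, Fin.sum_univ_two, b] using this
  rcases mul_self_eq_one_iff.1 hsq with h | h
  · apply h1
    rw [hM, h, one_smul]
    exact fromBlocks_one
  · apply hn
    rw [hM, h, ← fromBlocks_one, fromBlocks_neg]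
    simp

theorem exists_sym_mulVec (c y : Fin 2 → F) (hc : c ≠ 0) :
    ∃ T : M2, Tᵀ = T ∧ T *ᵥ c = y := by
  by_cases h0 : c 0 = 0
  · have h1 : c 1 ≠ 0 := by
      intro h1; apply hc; funext i; fin_cases i <;> simp [h0, h1]
    refine ⟨!![0, y 0 / c 1; y 0 / c 1, y 1 / c 1], ?_, ?_⟩
    · ext i j; fin_cases i <;> fin_cases j <;> rfl
    · funext i; fin_cases i <;> simp [mulVec, dotProduct, Fin.sum_univ_two, h0, h1]
  · refine ⟨!![(y 0 - y 1 / c 0 * c 1) / c 0, y 1 / c 0; y 1 / c 0, 0], ?_, ?_⟩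
    · ext i j; fin_cases i <;> fin_cases j <;> rfl
    · funext i; fin_cases i <;>
        simp [mulVec, dotProduct, Fin.sum_univ_two, h0]

variable (P : Par F)

theorem Par.rank_two [Fintype F] {g : M4} (hQ : (g.toBlocks₂₁).det ≠ 0) (hg : g ∈ SP) :
    ∃ g', Cj g g' ∧ (P.Covered g'.toBlocks₁₁ ∨ P.Covered (-g'.toBlocks₁₁)) := by
  obtain ⟨M, N, Q, D, rfl⟩ : ∃ M N Q D : M2, g = fromBlocks M N Q D :=
    ⟨_, _, _, _, (fromBlocks_toBlocks g).symm⟩
  simp only [toBlocks_fromBlocks₂₁] at hQ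
  obtain ⟨hMQ, -, -⟩ := SymplecticGroup.fromBlocks_mem_iff.1 hg
  have hu := isUnit_of_ne hQ
  have hu' : IsUnit (Qᵀ).det := by rwa [det_transpose]
  -- any symmetric factor can be reached
  have hreach : ∀ K : M2, Kᵀ = K → ∃ g', Cj (fromBlocks M N Q D) g' ∧ g'.toBlocks₁₁ = K * Q := by
    intro K hK
    have hsym : (M * Q⁻¹)ᵀ = M * Q⁻¹ := by
      rw [transpose_mul]
      calc (Q⁻¹)ᵀ * Mᵀ = (Q⁻¹)ᵀ * (Mᵀ * Q) * Q⁻¹ := by
            simp [Matrix.mul_assoc, mul_nonsing_inv Q hu]
        _ = M * Q⁻¹ := by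
            rw [hMQ, transpose_nonsing_inv, ← Matrix.mul_assoc, nonsing_inv_mul _ hu',
              Matrix.one_mul]
    refine ⟨_, cj_up_block (S := K - M * Q⁻¹) (by rw [transpose_sub, hK, hsym]), ?_⟩
    rw [up_block, toBlocks_fromBlocks₁₁, Matrix.sub_mul, Matrix.mul_assoc,
      nonsing_inv_mul Q hu, Matrix.mul_one, add_sub_cancel]
  have hkey : ∀ K : M2, Kᵀ = K → (K * Q).det = 1 → ¬ (Qᵀ = Q) → NS (K * Q) := by
    intro K hK hd hns
    by_contra hn
    simp only [NS, not_or, not_not] at hn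
    have hKQ : K * Q = (K * Q) 0 0 • (1 : M2) := by
      ext i j; fin_cases i <;> fin_cases j <;> simp [hn.1, hn.2.1, hn.2.2]
    have hKd : K.det ≠ 0 := by
      intro h; rw [det_mul, h, zero_mul] at hd; exact zero_ne_one hd
    apply hns
    have hQeq : Q = (K * Q) 0 0 • K⁻¹ := by
      have := congrArg (fun X => K⁻¹ * X) hKQ
      simpa [← Matrix.mul_assoc, nonsing_inv_mul K (isUnit_of_ne hKd)] using this
    rw [hQeq, transpose_smul, transpose_nonsing_inv, hK]
  by_cases hsym : Qᵀ = Q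
  · obtain ⟨g', hc, hb⟩ := hreach Q⁻¹ (by rw [transpose_nonsing_inv, hsym])
    exact ⟨g', hc, Or.inl (by rw [hb, nonsing_inv_mul Q hu]; exact P.covered_one)⟩
  set k := 1 / Q.det with hk
  by_cases h2 : (2 : F) = 0
  · -- characteristic two
    obtain ⟨K, hKs, hKd, hKt⟩ : ∃ K : M2, Kᵀ = K ∧ K.det = k ∧ (K * Q).trace ≠ 0 := by
      have hk0 : k ≠ 0 := one_div_ne_zero hQ
      by_cases hA : Q 0 0 + k * Q 1 1 = 0
      · by_cases hB : Q 0 0 = 0
        · have hD0 : Q 1 1 = 0 := by
            rw [hB, zero_add] at hA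
            exact (mul_eq_zero.1 hA).resolve_left hk0
          refine ⟨!![1, 1; 1, k + 1], by ext i j; fin_cases i <;> fin_cases j <;> rfl, ?_, ?_⟩
          · simp [det_fin_two]
          · simp [trace_fin_two, Matrix.vecMul, dotProduct, Fin.sum_univ_two, hB, hD0]
            intro h
            apply hsym
            have hne : Q 0 1 = Q 1 0 := by linear_combination h - Q 1 0 * h2
            ext i j; fin_cases i <;> fin_cases j <;> simp [hne]
        · refine ⟨!![P.d, 0; 0, k / P.d], by ext i j; fin_cases i <;> fin_cases j <;> rfl, ?_, ?_⟩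
          · simp [det_fin_two]
            field_simp [P.d0]
          · simp [trace_fin_two, Matrix.vecMul, dotProduct, Fin.sum_univ_two]
            intro h
            have h0 := P.d0
            field_simp at h
            have h3 : Q 0 0 * ((P.d - 1) * (P.d - 1)) = 0 := by
              linear_combination h - hA + (-(Q 0 0 * P.d) + Q 0 0) * h2
            rcases mul_eq_zero.1 h3 with h4 | h4
            · exact hB h4
            · exact P.d1 (sub_eq_zero.1 (mul_self_eq_zero.1 h4))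
      · refine ⟨!![1, 0; 0, k], by ext i j; fin_cases i <;> fin_cases j <;> rfl, ?_, ?_⟩
        · simp [det_fin_two]
        · simpa [trace_fin_two, Matrix.vecMul, dotProduct, Fin.sum_univ_two] using hA
    obtain ⟨g', hc, hb⟩ := hreach K hKs
    have hd : (K * Q).det = 1 := by rw [det_mul, hKd, hk, one_div_mul_cancel hQ]
    refine ⟨g', hc, Or.inl ?_⟩
    rw [hb]
    exact P.covered_det_one (hkey K hKs hd hsym) hd (by rwa [h2])
  · obtain ⟨g', hc, hb⟩ := hreach !![1, 0; 0, k] (by ext i j; fin_cases i <;> fin_cases j <;> rfl)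
    have hd : ((!![1, 0; 0, k] : M2) * Q).det = 1 := by
      rw [det_mul, det_fin_two_of, hk]
      field_simp
      ring
    have hns := hkey _ (by ext i j; fin_cases i <;> fin_cases j <;> rfl) hd hsym
    refine ⟨g', hc, ?_⟩
    rw [hb]
    by_cases ht : ((!![1, 0; 0, k] : M2) * Q).trace = 2
    · right
      refine P.covered_det_one ?_ (by rw [det_neg, hd]; simp) ?_
      · rcases hns with h | h | h
        · exact Or.inl (by simpa using h)
        · exact Or.inr (Or.inl (by simpa using h))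
        · exact Or.inr (Or.inr (by simpa using h))
      · rw [trace_neg, ht]
        intro h
        have h4 : (2 : F) * 2 = 0 := by linear_combination -h
        exact h2 (mul_self_eq_zero.1 h4)
    · exact Or.inl (P.covered_det_one hns hd ht)

theorem Par.rank_one {g : M4} (hg : g ∈ SP) (hM : g.toBlocks₂₁ 0 1 = 0 ∧ g.toBlocks₂₁ 1 1 = 0)
    (hQ : g.toBlocks₂₁ ≠ 0) :
    ∃ g', Cj g g' ∧ P.Covered g'.toBlocks₁₁ := by
  obtain ⟨M, N, Q, D, rfl⟩ : ∃ M N Q D : M2, g = fromBlocks M N Q D :=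
    ⟨_, _, _, _, (fromBlocks_toBlocks g).symm⟩
  simp only [toBlocks_fromBlocks₂₁] at hM hQ
  set c : Fin 2 → F := fun i => Q i 0 with hc
  have hc0 : c ≠ 0 := by
    intro h
    apply hQ
    ext i j
    fin_cases j
    · exact congrFun h i
    · fin_cases i
      · exact hM.1
      · exact hM.2
  have hcol : M 0 1 ≠ 0 ∨ M 1 1 ≠ 0 := by
    by_contra h
    simp only [not_or, not_not] at h
    have hd : IsUnit (fromBlocks M N Q D).det := SymplecticGroup.symplectic_det hg
    refine hd.ne_zero (det_eq_zero_of_column_eq_zero (Sum.inl 1) ?_)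
    rintro (i | i) <;> fin_cases i <;> simp [hM.1, hM.2, h.1, h.2]
  have hreach : ∀ y : Fin 2 → F, ∃ g', Cj (fromBlocks M N Q D) g' ∧
      g'.toBlocks₁₁ = !![y 0, M 0 1; y 1, M 1 1] := by
    intro y
    obtain ⟨T, hT, hTc⟩ := exists_sym_mulVec c (fun i => y i - M i 0) hc0
    refine ⟨_, cj_up_block (S := T) hT, ?_⟩
    rw [up_block, toBlocks_fromBlocks₁₁]
    have e0 := congrFun hTc 0
    have e1 := congrFun hTc 1
    simp [mulVec, dotProduct, Fin.sum_univ_two, hc] at e0 e1
    ext i j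
    fin_cases i <;> fin_cases j <;>
      simp [Matrix.mul_apply, Fin.sum_univ_two, hM.1, hM.2] <;>
      first | linear_combination e0 | linear_combination e1
  by_cases h01 : M 0 1 = 0
  · have h11 : M 1 1 ≠ 0 := hcol.resolve_left (not_not.2 h01)
    by_cases hbad : M 1 1 = 1
    · obtain ⟨g', hcj, hb⟩ := hreach ![P.d * P.d, 1]
      refine ⟨g', hcj, ?_⟩
      rw [hb]
      refine P.covered_det_sq (Or.inr (Or.inl (by simp))) (by simp [det_fin_two, h01, hbad]) ?_
      simp [trace_fin_two, hbad]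
      intro h
      exact P.d1 (sub_eq_zero.1 (mul_self_eq_zero.1 (show (P.d - 1) * (P.d - 1) = 0 by linear_combination h)))
    · obtain ⟨g', hcj, hb⟩ := hreach ![1 / M 1 1, 1]
      refine ⟨g', hcj, ?_⟩
      rw [hb]
      refine P.covered_det_one (Or.inr (Or.inl (by simp))) (by simp [det_fin_two, h01, h11]) ?_
      simp [trace_fin_two]
      intro h
      field_simp at h
      exact hbad (sub_eq_zero.1 (mul_self_eq_zero.1 (show (M 1 1 - 1) * (M 1 1 - 1) = 0 by linear_combination h)))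
  · obtain ⟨g', hcj, hb⟩ := hreach ![1 - M 1 1, ((1 - M 1 1) * M 1 1 - 1) / M 0 1]
    refine ⟨g', hcj, ?_⟩
    rw [hb]
    refine P.covered_det_one (Or.inl (by simpa using h01)) ?_ ?_
    · simp [det_fin_two]
      field_simp
      ring
    · simp [trace_fin_two]
      intro h
      exact one_ne_zero (α := F) (by linear_combination -h)

theorem Par.exists_covered [Fintype F] {g : M4} (hg : g ∈ SP) (h1 : g ≠ 1) (hn : g ≠ -1) :
    ∃ g', Cj g g' ∧ (P.Covered g'.toBlocks₁₁ ∨ P.Covered (-g'.toBlocks₁₁)) := by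
  obtain ⟨g₁, hc₁, hQ⟩ := exists_corner hg h1 hn
  have hg₁ := hc₁.mem hg
  by_cases hd : g₁.toBlocks₂₁.det = 0
  · obtain ⟨v, hv, hv0⟩ := exists_mulVec_eq_zero_iff.2 hd
    -- move the kernel to the second basis vector
    obtain ⟨R, hR, hR1⟩ : ∃ R : M2, R.det ≠ 0 ∧ (fun i => R i 1) = v := by
      by_cases h : v 1 = 0
      · refine ⟨!![0, v 0; 1, v 1], ?_, ?_⟩
        · simp [det_fin_two]
          intro h0
          apply hv; funext i; fin_cases i <;> simp [h0, h]
        · funext i; fin_cases i <;> rfl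
      · refine ⟨!![1, v 0; 0, v 1], by simpa [det_fin_two] using h, ?_⟩
        funext i; fin_cases i <;> rfl
    have hu := isUnit_of_ne hR
    have hRi : (R⁻¹).det ≠ 0 := by
      rw [det_nonsing_inv, Ring.inverse_eq_inv']; exact inv_ne_zero hR
    set g₂ := dg R⁻¹ * g₁ * dg R with hg₂
    have hc₂ : Cj g₁ g₂ := by
      refine ⟨dg R⁻¹, dg_mem hRi, ?_⟩
      rw [hg₂, Matrix.mul_assoc (dg R⁻¹ * g₁), dg_mul, mul_nonsing_inv R hu]
      simp [dg]
    have hblk : g₂.toBlocks₂₁ = Rᵀ * g₁.toBlocks₂₁ * R := by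
      rw [hg₂]
      conv_lhs => rw [← fromBlocks_toBlocks g₁]
      simp [dg, fromBlocks_multiply, nonsing_inv_nonsing_inv R hu]
    have hcolz : ∀ i, g₂.toBlocks₂₁ i 1 = 0 := by
      intro i
      have hzero : ∀ k, (g₁.toBlocks₂₁ * R) k 1 = 0 := by
        intro k
        have := congrFun hv0 k
        rw [← hR1] at this
        simpa [mulVec, dotProduct, Matrix.mul_apply] using this
      rw [hblk, Matrix.mul_assoc, Matrix.mul_apply]
      simp [hzero]
    have hne : g₂.toBlocks₂₁ ≠ 0 := by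
      rw [hblk]
      intro h
      apply hQ
      have h' := congrArg (fun X => (Rᵀ)⁻¹ * X * R⁻¹) h
      simpa [← Matrix.mul_assoc, nonsing_inv_mul _ (show IsUnit (Rᵀ).det by rwa [det_transpose]),
        Matrix.mul_assoc _ R, mul_nonsing_inv R hu] using h'
    obtain ⟨g', hc, h⟩ := P.rank_one (hc₂.mem hg₁) ⟨hcolz 0, hcolz 1⟩ hne
    exact ⟨g', hc₁.trans (hc₂.trans hc), Or.inl h⟩
  · obtain ⟨g', hc, h⟩ := P.rank_two hd hg₁
    exact ⟨g', hc₁.trans hc, h⟩

theorem Cj.neg {X Y : M4} (h : Cj X Y) : Cj (-X) (-Y) := by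
  obtain ⟨a, ha, h⟩ := h
  exact ⟨a, ha, by rw [Matrix.mul_neg, Matrix.neg_mul, h]⟩

/-- the covering in the matrix group, up to sign -/
theorem Par.cover [Fintype F] {g : M4} (hg : g ∈ SP) (h1 : g ≠ 1) (hn : g ≠ -1) :
    ∃ (e : M4) (X Y : M4), (e = g ∨ e = -g) ∧ Cj (dg P.A) X ∧ Cj (dg P.A) Y ∧ e = X * Y := by
  obtain ⟨g', hc, hcov⟩ := P.exists_covered hg h1 hn
  obtain ⟨e, e', he, hce, he'⟩ : ∃ e e', (e = g ∨ e = -g) ∧ Cj e e' ∧ P.Covered e'.toBlocks₁₁ := by
    rcases hcov with h | h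
    · exact ⟨g, g', Or.inl rfl, hc, h⟩
    · exact ⟨-g, -g', Or.inr rfl, hc.neg, h⟩
  have hmem : e ∈ SP := by
    rcases he with rfl | rfl
    · exact hg
    · exact SymplecticGroup.neg_mem hg
  obtain ⟨X, Y, hX, hY, hXY⟩ := P.product (hce.mem hmem) he'
  obtain ⟨a, ha, hae⟩ := hce.symm
  have hu := SymplecticGroup.symplectic_det ha
  have hconj : ∀ Z, Cj (dg P.A) Z → Cj (dg P.A) (a * Z * a⁻¹) :=
    fun Z hZ => hZ.trans (Cj.of_eq ha rfl)
  refine ⟨e, a * X * a⁻¹, a * Y * a⁻¹, he, hconj X hX, hconj Y hY, ?_⟩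
  calc e = e * a * a⁻¹ := by rw [Matrix.mul_assoc, mul_nonsing_inv a hu, Matrix.mul_one]
    _ = a * (X * Y) * a⁻¹ := by rw [← hae, hXY]
    _ = _ := by simp only [Matrix.mul_assoc, nonsing_inv_mul_cancel_left _ _ hu]

end CfsgLib.SpFourCover
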