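import Mathlib

/-!
Products of two conjugates of an irreducible `2 × 2` matrix, and the fixed symmetric forms of such a
matrix.
-/

set_option autoImplicit false

namespace CfsgLib.SpFourCover

open Matrix

variable {F : Type*} [Field F]

/-- similarity of `2 × 2` matrices -/
def Sim (A B : Matrix (Fin 2) (Fin 2) F) : Prop :=
  ∃ R : Matrix (Fin 2) (Fin 2) F, R.det ≠ 0 ∧ A * R = R * B

/-- companion matrix of `X² - t X + d` -/
def comp (d t : F) : Matrix (Fin 2) (Fin 2) F := !![0, -d; 1, t]

/-- not a scalar matrix -/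
def NS (A : Matrix (Fin 2) (Fin 2) F) : Prop := A 0 1 ≠ 0 ∨ A 1 0 ≠ 0 ∨ A 0 0 ≠ A 1 1

theorem isUnit_of_ne {R : Matrix (Fin 2) (Fin 2) F} (h : R.det ≠ 0) : IsUnit R.det :=
  isUnit_iff_ne_zero.2 h

theorem Sim.eq_conj {A B R : Matrix (Fin 2) (Fin 2) F} (hR : R.det ≠ 0) (h : A * R = R * B) :
    A = R * B * R⁻¹ := by
  rw [← h, Matrix.mul_assoc, mul_nonsing_inv R (isUnit_of_ne hR), Matrix.mul_one]

theorem Sim.refl (A : Matrix (Fin 2) (Fin 2) F) : Sim A A := ⟨1, by simp, by simp⟩

theorem Sim.symm {A B : Matrix (Fin 2) (Fin 2) F} (h : Sim A B) : Sim B A := by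
  obtain ⟨R, hR, h⟩ := h
  refine ⟨R⁻¹, ?_, ?_⟩
  · rw [det_nonsing_inv, Ring.inverse_eq_inv']; exact inv_ne_zero hR
  · rw [Sim.eq_conj hR h, ← Matrix.mul_assoc, ← Matrix.mul_assoc,
      nonsing_inv_mul R (isUnit_of_ne hR), Matrix.one_mul]

theorem Sim.trans {A B C : Matrix (Fin 2) (Fin 2) F} (h : Sim A B) (h' : Sim B C) : Sim A C := by
  obtain ⟨R, hR, h⟩ := h
  obtain ⟨S, hS, h'⟩ := h'
  refine ⟨R * S, by rw [det_mul]; exact mul_ne_zero hR hS, ?_⟩
  rw [← Matrix.mul_assoc, h, Matrix.mul_assoc, h', Matrix.mul_assoc]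

theorem sim_comp {M : Matrix (Fin 2) (Fin 2) F} (hM : NS M) : Sim M (comp M.det M.trace) := by
  by_cases h10 : M 1 0 = 0
  · by_cases h01 : M 0 1 = 0
    · have hd : M 0 0 ≠ M 1 1 := by
        rcases hM with h | h | h
        · exact absurd h01 h
        · exact absurd h10 h
        · exact h
      refine ⟨!![1, M 0 0; 1, M 1 1], ?_, ?_⟩
      · rw [det_fin_two]
        simpa [sub_eq_zero] using hd.symm
      · ext i j
        fin_cases i <;> fin_cases j <;>
          simp [comp, Matrix.mul_apply, Fin.sum_univ_two, det_fin_two, trace_fin_two, h10, h01] <;>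
          ring
    · refine ⟨!![0, M 0 1; 1, M 1 1], ?_, ?_⟩
      · rw [det_fin_two]
        simpa using h01
      · ext i j
        fin_cases i <;> fin_cases j <;>
          simp [comp, Matrix.mul_apply, Fin.sum_univ_two, det_fin_two, trace_fin_two, h10] <;>
          ring
  · refine ⟨!![1, M 0 0; 0, M 1 0], ?_, ?_⟩
    · rw [det_fin_two]
      simpa using h10
    · ext i j
      fin_cases i <;> fin_cases j <;>
        simp [comp, Matrix.mul_apply, Fin.sum_univ_two, det_fin_two, trace_fin_two] <;>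
        ring

theorem sim_of_eq {M N : Matrix (Fin 2) (Fin 2) F} (hM : NS M) (hN : NS N)
    (hd : M.det = N.det) (ht : M.trace = N.trace) : Sim M N := by
  have h := sim_comp hM
  rw [hd, ht] at h
  exact h.trans (sim_comp hN).symm

/-- no non-zero symmetric bilinear form is invariant under `A` -/
def Good (A : Matrix (Fin 2) (Fin 2) F) : Prop :=
  ∀ S : Matrix (Fin 2) (Fin 2) F, Sᵀ = S → Aᵀ * S * A = S → S = 0

theorem Good.sim {A B : Matrix (Fin 2) (Fin 2) F} (hA : Good A) (h : Sim A B) : Good B := by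
  obtain ⟨R, hR, h⟩ := h.symm
  have hu := isUnit_of_ne hR
  have hB : B * R = R * A := h
  intro S hS hfix
  have h1 := hA (Rᵀ * S * R) (by simp [Matrix.transpose_mul, hS, Matrix.mul_assoc]) (by
    calc Aᵀ * (Rᵀ * S * R) * A = (R * A)ᵀ * S * (R * A) := by
          simp only [Matrix.transpose_mul, Matrix.mul_assoc]
      _ = Rᵀ * (Bᵀ * S * B) * R := by
          rw [← hB]; simp only [Matrix.transpose_mul, Matrix.mul_assoc]
      _ = Rᵀ * S * R := by rw [hfix])
  have hT : IsUnit (Rᵀ).det := by rwa [det_transpose]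
  have h2 : S * R = 0 := by
    have := congrArg (fun X => (Rᵀ)⁻¹ * X) h1
    simpa [← Matrix.mul_assoc, nonsing_inv_mul _ hT] using this
  have := congrArg (fun X => X * R⁻¹) h2
  simpa [Matrix.mul_assoc, mul_nonsing_inv _ hu] using this

/-- the parameters of the class -/
structure Par (F : Type*) [Field F] where
  /-- determinant -/
  d : F
  /-- trace -/
  t : F
  d0 : d ≠ 0
  d1 : d ≠ 1
  t0 : t ≠ 0
  root : ∀ r : F, r * r - t * r + d ≠ 0
  point : ∀ s : F, ∃ u w : F,
    -(u * u) - t * (u * w) - d * (w * w) + t / d * u - (s - t * t / d) * w - 1 / d = 0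

variable (P : Par F)

/-- the irreducible block -/
def Par.A : Matrix (Fin 2) (Fin 2) F := comp P.d P.t

theorem Par.det_A : P.A.det = P.d := by simp [Par.A, comp, det_fin_two]

theorem Par.det_A_ne : P.A.det ≠ 0 := by rw [P.det_A]; exact P.d0

theorem Par.trace_A : P.A.trace = P.t := by simp [Par.A, comp, trace_fin_two]

theorem Par.ns_A : NS P.A := Or.inr (Or.inl (by simp [Par.A, comp]))

theorem Par.inv_A : P.A⁻¹ = !![P.t / P.d, 1; -(1 / P.d), 0] := by
  refine inv_eq_right_inv ?_
  have := P.d0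
  ext i j
  fin_cases i <;> fin_cases j <;> simp [Par.A, comp, Matrix.mul_apply, Fin.sum_univ_two] <;>
    field_simp <;> ring

theorem Par.ns_inv : NS P.A⁻¹ := Or.inl (by rw [P.inv_A]; simp)

theorem Par.det_inv : P.A⁻¹.det = 1 / P.d := by rw [P.inv_A]; simp [det_fin_two]

theorem Par.trace_inv : P.A⁻¹.trace = P.t / P.d := by rw [P.inv_A]; simp [trace_fin_two]

theorem Par.good : Good P.A := by
  intro S hS h
  have hy : S 1 0 = S 0 1 := congrFun (congrFun hS 0) 1
  have e00 := congrFun (congrFun h 0) 0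
  have e01 := congrFun (congrFun h 0) 1
  have e11 := congrFun (congrFun h 1) 1
  simp [Par.A, comp, Matrix.mul_apply, Fin.sum_univ_two, hy] at e00 e01 e11
  have hz : S 1 1 = 0 ∧ S 0 1 = 0 := by
    by_cases hd : P.d = -1
    · have h20 : (2 : F) ≠ 0 := fun h2 => P.d1 (by rw [hd]; linear_combination -h2)
      have htz : P.t * S 1 1 = 0 := by rw [hd] at e01; linear_combination e01
      have hz : S 1 1 = 0 := (mul_eq_zero.1 htz).resolve_left P.t0
      refine ⟨hz, ?_⟩
      have : (2 : F) * P.t * S 0 1 = 0 := by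
        rw [hd, ← e00, hz] at e11
        linear_combination e11
      exact (mul_eq_zero.1 this).resolve_left (mul_ne_zero h20 P.t0)
    · have h1d : 1 + P.d ≠ 0 := fun h0 => hd (by linear_combination h0)
      have hyz : S 0 1 * (1 + P.d) = P.t * S 1 1 := by linear_combination -e01
      have h0 : S 1 1 * ((P.d - 1) * ((1 + P.d) - P.t) * ((1 + P.d) + P.t)) = 0 := by
        rw [← e00] at e11
        linear_combination (1 + P.d) * e11 + 2 * P.d * P.t * hyz
      have hz : S 1 1 = 0 := by
        refine (mul_eq_zero.1 h0).resolve_right (mul_ne_zero (mul_ne_zero ?_ ?_) ?_)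
        · exact sub_ne_zero.2 P.d1
        · intro hr; exact P.root 1 (by linear_combination hr)
        · intro hr; exact P.root (-1) (by linear_combination hr)
      refine ⟨hz, ?_⟩
      rw [hz, mul_zero] at hyz
      exact (mul_eq_zero.1 hyz).resolve_right h1d
  ext i j
  fin_cases i <;> fin_cases j <;> simp [← e00, hy, hz.1, hz.2]

theorem Par.mul_cover {M : Matrix (Fin 2) (Fin 2) F} (hM : NS M) (hd : M.det = 1)
    (ht : M.trace ≠ 2) :
    ∃ A₁ A₂, M = A₁ * A₂ ∧ Sim A₁ P.A ∧ Sim A₂ P.A⁻¹ := by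
  obtain ⟨u, w, huw⟩ := P.point M.trace
  have h0 := P.d0
  set v : F := M.trace + P.d * w - P.t * P.t / P.d + P.t * u with hv
  set B : Matrix (Fin 2) (Fin 2) F := !![u, v; w, P.t / P.d - u] with hB
  have hBd : B.det = 1 / P.d := by
    rw [hB, det_fin_two_of, hv]
    linear_combination huw
  have hBt : B.trace = P.t / P.d := by simp [hB, trace_fin_two]
  have hBn : NS B := by
    by_contra hn
    simp only [NS, hB, not_or, not_not] at hn
    simp at hn
    obtain ⟨h1, h2, h3⟩ := hn
    have h4 : u * u = 1 / P.d := by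
      rw [← hBd, hB, det_fin_two_of, h1, h2]
      linear_combination u * h3
    refine P.root (P.d * u) ?_
    have h5 : P.d * (u * u) = 1 := by rw [h4]; field_simp
    have h6 : P.t = 2 * P.d * u := by
      field_simp at h3
      linear_combination -h3
    linear_combination (P.d * u) * -h6 + -P.d * h5
  have hKd : (P.A * B).det = 1 := by
    rw [det_mul, P.det_A, hBd]
    field_simp
  have hKt : (P.A * B).trace = M.trace := by
    simp [Par.A, comp, hB, trace_fin_two, Matrix.mul_apply, Fin.sum_univ_two]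
    rw [hv]
    simp only [trace_fin_two]
    field_simp
    ring
  have hKn : NS (P.A * B) := by
    by_contra hn
    simp only [NS, not_or, not_not] at hn
    simp [Par.A, comp, hB, Matrix.mul_apply, Fin.sum_univ_two] at hn
    obtain ⟨h1, h2, h3⟩ := hn
    rw [← hKt] at ht
    apply ht
    have h1' : P.t / P.d - u = 0 := h1.resolve_left h0
    have hu : u = P.t / P.d := (sub_eq_zero.1 h1').symm
    have hw : P.d * w = -1 := by
      rw [hu] at h2
      apply mul_left_cancel₀ P.t0
      field_simp at h2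
      linear_combination h2
    simp [Par.A, comp, hB, trace_fin_two, Matrix.mul_apply, Fin.sum_univ_two]
    linear_combination -h3 - 2 * hw
  obtain ⟨R, hR, h⟩ := sim_of_eq hM hKn (by rw [hd, hKd]) hKt.symm
  have hu := isUnit_of_ne hR
  refine ⟨R * P.A * R⁻¹, R * B * R⁻¹, ?_, ⟨R, hR, ?_⟩, ?_⟩
  · rw [Sim.eq_conj hR h]
    simp [Matrix.mul_assoc, nonsing_inv_mul_cancel_left _ _ hu]
  · simp [Matrix.mul_assoc, nonsing_inv_mul _ hu]
  · refine Sim.trans ⟨R, hR, ?_⟩ (sim_of_eq hBn P.ns_inv (by rw [hBd, P.det_inv])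
      (by rw [hBt, P.trace_inv]))
    simp [Matrix.mul_assoc, nonsing_inv_mul _ hu]

/-- the products of two conjugates -/
def Par.Covered (M : Matrix (Fin 2) (Fin 2) F) : Prop :=
  ∃ A₁ A₂, M = A₁ * A₂ ∧ Sim A₁ P.A ∧ (Sim A₂ P.A ∨ Sim A₂ P.A⁻¹)

theorem Par.covered_one : P.Covered 1 :=
  ⟨P.A, P.A⁻¹, (mul_nonsing_inv _ (isUnit_of_ne P.det_A_ne)).symm, Sim.refl _, Or.inr (Sim.refl _)⟩

theorem Par.covered_det_one {M : Matrix (Fin 2) (Fin 2) F} (hM : NS M) (hd : M.det = 1)
    (ht : M.trace ≠ 2) : P.Covered M := by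
  obtain ⟨A₁, A₂, h, h₁, h₂⟩ := P.mul_cover hM hd ht
  exact ⟨A₁, A₂, h, h₁, Or.inr h₂⟩

theorem Par.covered_det_sq {M : Matrix (Fin 2) (Fin 2) F} (hM : NS M) (hd : M.det = P.d * P.d)
    (ht : M.trace ≠ 2 * P.d) : P.Covered M := by
  have h0 := P.d0
  obtain ⟨A₁, A₂, h, h₁, ⟨R, hR, h₂⟩⟩ := P.mul_cover (M := P.d⁻¹ • M) (by
      rcases hM with h | h | h
      · exact Or.inl (by simpa [h0] using h)
      · exact Or.inr (Or.inl (by simpa [h0] using h))
      · exact Or.inr (Or.inr (by simpa [h0] using h)))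
    (by rw [det_smul, hd, Fintype.card_fin]; field_simp)
    (by
      rw [trace_smul, smul_eq_mul]
      intro h
      apply ht
      field_simp at h
      linear_combination h)
  refine ⟨A₁, P.d • A₂, ?_, h₁, Or.inl ?_⟩
  · rw [mul_smul_comm, ← h, smul_smul, mul_inv_cancel₀ h0, one_smul]
  · refine Sim.trans (B := P.d • P.A⁻¹) ⟨R, hR, by rw [smul_mul_assoc, h₂, mul_smul_comm]⟩ ?_
    refine sim_of_eq (Or.inl ?_) P.ns_A ?_ ?_
    · rw [P.inv_A]; simpa using h0
    · rw [det_smul, P.det_inv, P.det_A, Fintype.card_fin]; field_simp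
    · rw [trace_smul, P.trace_inv, P.trace_A, smul_eq_mul]; field_simp

theorem Par.exists_par [Fintype F] (h3 : 3 ≤ Fintype.card F) : Nonempty (Par F) := by
  classical
  have hex : ∀ d : F, d ≠ 0 → d ≠ 1 → ∃ t : F, ∀ r : F, r * r - t * r + d ≠ 0 := by
    intro d hd hd1
    by_contra hne
    simp only [not_exists, not_forall, not_not] at hne
    choose f hf using hne
    have hnz : ∀ t, f t ≠ 0 := fun t h => hd (by simpa [h] using hf t)
    have hsurj : Function.Surjective (fun r : F => r + d / r) := by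
      intro t
      refine ⟨f t, ?_⟩
      have := hnz t
      field_simp
      linear_combination hf t
    have hbij := Finite.injective_iff_surjective.2 hsurj
    refine hd1 (hbij ?_).symm
    simp only
    field_simp
    ring
  by_cases h2 : ringChar F = 2
  · haveI : CharP F 2 := ringChar.of_eq h2
    have h20 : (2 : F) = 0 := CharTwo.two_eq_zero
    obtain ⟨d, hd⟩ : ∃ d : F, d ∉ ({0, 1} : Finset F) := by
      by_contra hne
      simp only [not_exists, not_not] at hne
      have h1 := Finset.card_le_card (show (Finset.univ : Finset F) ⊆ {0, 1} from fun x _ => hne x)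
      have h4 : ({0, 1} : Finset F).card ≤ 2 := Finset.card_le_two
      rw [Finset.card_univ] at h1
      omega
    simp only [Finset.mem_insert, Finset.mem_singleton, not_or] at hd
    obtain ⟨t, ht⟩ := hex d hd.1 hd.2
    have ht0 : t ≠ 0 := by
      intro h
      obtain ⟨r, hr⟩ := FiniteField.isSquare_of_char_two h2 d
      exact ht r (by rw [h, hr]; linear_combination (r * r) * h20)
    refine ⟨⟨d, t, hd.1, hd.2, ht0, ht, fun s => ?_⟩⟩
    obtain ⟨u, hu⟩ := FiniteField.isSquare_of_char_two h2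
      (-(d * (1 / d * (1 / d))) - (s - t * t / d) * (1 / d) - 1 / d)
    refine ⟨u, 1 / d, ?_⟩
    have : t * (u * (1 / d)) = t / d * u := by ring
    linear_combination hu - this
  · have hodd : Fintype.card F % 2 = 1 := FiniteField.odd_card_of_char_ne_two h2
    have h20 : (2 : F) ≠ 0 := Ring.two_ne_zero h2
    obtain ⟨t, ht⟩ := hex (-1) (neg_ne_zero.2 one_ne_zero) (fun h => h20 (by linear_combination -h))
    have ht0 : t ≠ 0 := fun h => ht 1 (by rw [h]; ring)
    refine ⟨⟨-1, t, neg_ne_zero.2 one_ne_zero, ?_, ht0, ht, fun s => ?_⟩⟩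
    · intro h
      exact h20 (by linear_combination -h)
    · have hD : 1 + t * t / 4 ≠ 0 := by
        intro h
        apply ht (t / 2)
        have h4 : (4 : F) ≠ 0 := by
          rw [show (4 : F) = 2 * 2 by norm_num]
          exact mul_ne_zero h20 h20
        field_simp at h ⊢
        linear_combination -h
      obtain ⟨x, w, hxw⟩ := FiniteField.exists_root_sum_quadratic
        (f := Polynomial.C (-1) * Polynomial.X ^ 2 + Polynomial.C (-t) * Polynomial.X +
          Polynomial.C (1 : F))
        (g := Polynomial.C (1 + t * t / 4) * Polynomial.X ^ 2 +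
          Polynomial.C (-(s + t * t / 2)) * Polynomial.X + Polynomial.C (0 : F))
        (Polynomial.degree_quadratic (neg_ne_zero.2 one_ne_zero))
        (Polynomial.degree_quadratic hD) hodd
      simp only [Polynomial.eval_add, Polynomial.eval_mul, Polynomial.eval_C, Polynomial.eval_pow,
        Polynomial.eval_X] at hxw
      refine ⟨x - t * w / 2, w, ?_⟩
      have h4 : (4 : F) ≠ 0 := by
        rw [show (4 : F) = 2 * 2 by norm_num]
        exact mul_ne_zero h20 h20
      field_simp at hxw ⊢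
      apply mul_left_cancel₀ h20
      linear_combination hxw

end CfsgLib.SpFourCover
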